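import Groth.Agent.DQCoh.PerfCrit
import Groth.Agent.SGA6Ext.Basis
import Groth.Agent.LocFree.SemiLocal
import Groth.Agent.QC.IdealMod

/-!
Epimorphisms between locally isomorphic finite locally free modules, and locality criteria.
-/

set_option autoImplicit false
set_option backward.isDefEq.respectTransparency false
set_option linter.style.haveILetI false

universe u

open CategoryTheory CategoryTheory.Limits AlgebraicGeometry TopologicalSpace Opposite

noncomputable section

namespace Groth.Agent.VBLift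

variable {X U : Scheme.{u}}

/-- A trivialization over an open subscheme gives one over the image open. -/
theorem triv_of_restrict (j : U ⟶ X) [IsOpenImmersion j] (M : X.Modules) (V : U.Opens) (n : ℕ)
    (e : ((Scheme.Modules.restrictFunctor j).obj M).restrict V.ι ≅ FlatMod.freeMod V n) :
    Nonempty (M.restrict (V.ι ≫ j).opensRange.ι ≅ FlatMod.freeMod (V.ι ≫ j).opensRange n) := by
  obtain ⟨k, hk, hkj⟩ := DQCoh.exists_opens (V.ι ≫ j)
  exact ⟨(Scheme.Modules.restrictFunctorCongr hkj).symm.app M ≪≫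
    (Scheme.Modules.restrictFunctorComp k (V.ι ≫ j)).app M ≪≫
    (Scheme.Modules.restrictFunctor k).mapIso ((Scheme.Modules.restrictFunctorComp V.ι j).app M ≪≫ e) ≪≫
    (Scheme.Modules.restrictFunctorIsoPullback k).app _ ≪≫ DerPerf.pullFreeIso k n⟩

/-- An epimorphism of locally isomorphic finite locally free modules is an isomorphism. -/
theorem isIso_of_epi {M N : X.Modules} (hM : FlatMod.IsFinLocFree M) (hN : FlatMod.IsFinLocFree N)
    (φ : M ⟶ N) [Epi φ] (h : ∀ x : X, ∃ O : X.Opens, x ∈ O ∧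
      Nonempty ((Scheme.Modules.restrictFunctor O.ι).obj M ≅ (Scheme.Modules.restrictFunctor O.ι).obj N)) :
    IsIso φ := by
  let G : X.Opens → Prop := fun V => IsAffineOpen V ∧ ∃ n : ℕ,
    Nonempty (Module.Basis (ULift.{u} (Fin n)) Γ(X, V) Γ(M, V)) ∧ Nonempty (Module.Basis (ULift.{u} (Fin n)) Γ(X, V) Γ(N, V))
  have hG : SGA6Ext.IsBase G := fun P x hx => by
    obtain ⟨O, hxO, ⟨eO⟩⟩ := h x
    obtain ⟨V, n, hxV, ⟨e⟩⟩ := DQCoh.isFinLocFree_restrict O.ι hM (⟨x, hxO⟩ : O)
    obtain ⟨eM⟩ := triv_of_restrict O.ι M V n e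
    obtain ⟨eN⟩ := triv_of_restrict O.ι N V n ((Scheme.Modules.restrictFunctor V.ι).mapIso eO.symm ≪≫ e)
    obtain ⟨D, hD, hxD, hle⟩ := exists_isAffineOpen_mem_and_subset (x := x) (U := P ⊓ (V.ι ≫ O.ι).opensRange)
      ⟨hx, ⟨⟨⟨x, hxO⟩, hxV⟩, rfl⟩⟩
    exact ⟨D, ⟨hD, n, LocFree.exists_basis_sections_of_le eM hD fun z hz => (hle hz).2,
      LocFree.exists_basis_sections_of_le eN hD fun z hz => (hle hz).2⟩, hxD, fun z hz => (hle hz).1⟩
  haveI : Mono φ := SGA6Ext.mono_of_base hG φ fun V hV => by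
    obtain ⟨hA, n, ⟨b⟩, ⟨b'⟩⟩ := hV
    haveI : Module.Finite Γ(X, V) Γ(M, V) := Module.Finite.of_basis b
    have hsurj : Function.Surjective ((b'.equiv b (Equiv.refl _)).toLinearMap ∘ₗ QC.appₗ φ V) :=
      (b'.equiv b (Equiv.refl _)).surjective.comp (QC.app_surjective_of_epi hA
        (DQCoh.isQCoh_of_isFinLocFree hM) (DQCoh.isQCoh_of_isFinLocFree hN) φ)
    exact fun x y h => OrzechProperty.injective_of_surjective_endomorphism _ hsurj (congrArg (b'.equiv b (Equiv.refl _)) h)
  exact isIso_of_mono_of_epi φ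

/-- Being an epimorphism can be checked on an open cover. -/
theorem epi_of_restrict {M N : X.Modules} (φ : M ⟶ N)
    (h : ∀ x : X, ∃ O : X.Opens, x ∈ O ∧ Epi ((Scheme.Modules.restrictFunctor O.ι).map φ)) : Epi φ := by
  refine ⟨fun {Z} a b hab => Scheme.Modules.hom_ext _ _ fun V => ?_⟩
  ext s
  refine QC.section_eq_of_locally fun x hx => ?_
  obtain ⟨O, hxO, hO⟩ := h x
  haveI := hO
  have hR : (Scheme.Modules.restrictFunctor O.ι).map a = (Scheme.Modules.restrictFunctor O.ι).map b := by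
    rw [← cancel_epi ((Scheme.Modules.restrictFunctor O.ι).map φ), ← Functor.map_comp, hab, Functor.map_comp]
  have hle : O.ι ''ᵁ (O.ι ⁻¹ᵁ V) ≤ V := by
    rw [Scheme.Hom.image_preimage_eq_opensRange_inf]; exact inf_le_right
  refine ⟨_, hle, ⟨⟨x, hxO⟩, hx, rfl⟩, ?_⟩
  rw [QC.app_res, QC.app_res]
  exact congrArg (fun χ : (Scheme.Modules.restrictFunctor O.ι).obj N ⟶ _ => χ.app (O.ι ⁻¹ᵁ V) (QC.res N hle s)) hR

/-- A morphism whose restriction to an open is invertible has invertible restrictions below. -/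
theorem isIso_app_of_isIso_restrict {M N : X.Modules} (φ : M ⟶ N) (O : X.Opens)
    [IsIso ((Scheme.Modules.restrictFunctor O.ι).map φ)] {V : X.Opens} (hV : V ≤ O) : IsIso (φ.app V) := by
  have h : IsIso (((Scheme.Modules.restrictFunctor O.ι).map φ).app (O.ι ⁻¹ᵁ V)) := inferInstance
  have e : O.ι ''ᵁ (O.ι ⁻¹ᵁ V) = V := by
    rw [Scheme.Hom.image_preimage_eq_opensRange_inf, Scheme.Opens.opensRange_ι]; exact inf_eq_right.2 hV
  rw [← e]
  exact h

/-- A morphism with invertible components below an open is invertible there. -/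
theorem isIso_restrict_of_app {M N : X.Modules} (φ : M ⟶ N) (O : X.Opens)
    (h : ∀ V : X.Opens, V ≤ O → IsIso (φ.app V)) : IsIso ((Scheme.Modules.restrictFunctor O.ι).map φ) :=
  Scheme.Modules.Hom.isIso_iff_isIso_app.2 fun W => h (O.ι ''ᵁ W)
    (by rintro z ⟨w, -, rfl⟩; exact w.2)

end Groth.Agent.VBLift
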