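import Groth.Agent.VBLift.Affine
import Groth.Agent.VBLift.Epi
import Groth.Agent.RelPCS.Push
import Groth.Agent.ThickSys.Desc

/-!
Lifting finite locally free modules along nilimmersions which are isomorphisms off pairwise separated affine
pieces.
-/

set_option autoImplicit false
set_option backward.isDefEq.respectTransparency false
set_option backward.isDefEq.respectTransparency.types false
set_option linter.style.haveILetI false

universe u

open CategoryTheory CategoryTheory.Limits AlgebraicGeometry TopologicalSpace Opposite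
open Scheme.Modules (restrictFunctor restrictAdjunction)

noncomputable section

namespace Groth.Agent.VBLift

variable {X Y : Scheme.{u}}

/-- A module is the direct image of its pullback along an isomorphism. -/
def pushPullIso (e : X ⟶ Y) [IsIso e] (M : Y.Modules) :
    (Scheme.Modules.pushforward e).obj ((Scheme.Modules.pullback e).obj M) ≅ M :=
  (pushIsoRestrict e).app _ ≪≫ (Scheme.Modules.restrictFunctorIsoPullback (inv e)).app _ ≪≫
    pullCompIso (IsIso.inv_hom_id e) M ≪≫ (Scheme.Modules.pullbackId Y).app M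

/-- Restriction commutes with pullback. -/
def pullRestrIso (h : X ⟶ Y) (O : Y.Opens) (G : Y.Modules) :
    (restrictFunctor (h ⁻¹ᵁ O).ι).obj ((Scheme.Modules.pullback h).obj G) ≅
      (Scheme.Modules.pullback (h ∣_ O)).obj ((restrictFunctor O.ι).obj G) :=
  (Scheme.Modules.restrictFunctorIsoPullback _).app _ ≪≫ pullCompIso rfl G ≪≫
    (pullCompIso (morphismRestrict_ι h O) G).symm ≪≫
    (Scheme.Modules.pullback _).mapIso ((Scheme.Modules.restrictFunctorIsoPullback O.ι).app G).symm

theorem isIso_restrict_image (h : X ⟶ Y) (U : Y.Opens) (V : U.toScheme.Opens) :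
    IsIso (h ∣_ U ∣_ V) ↔ IsIso (h ∣_ U.ι ''ᵁ V) :=
  (MorphismProperty.isomorphisms Scheme).arrow_mk_iso_iff (morphismRestrictRestrict h U V)

theorem isIso_restrict_of_le (h : X ⟶ Y) {O W : Y.Opens} (hle : O ≤ W) [IsIso (h ∣_ W)] : IsIso (h ∣_ O) := by
  have e : W.ι ''ᵁ (W.ι ⁻¹ᵁ O) = O := by
    rw [Scheme.Hom.image_preimage_eq_opensRange_inf, Scheme.Opens.opensRange_ι]; exact inf_eq_right.2 hle
  have h1 := (isIso_restrict_image h W (W.ι ⁻¹ᵁ O)).1 inferInstance
  rwa [e] at h1

/-- An epimorphism inducing an isomorphism after pullback is invertible where the immersion is. -/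
theorem isIso_restrict_of_epi (k : X ⟶ Y) (W : Y.Opens) [IsIso (k ∣_ W)] {P : Y.Modules} {N : X.Modules}
    (hP : FlatMod.IsFinLocFree P) (_hN : FlatMod.IsFinLocFree N)
    (a : P ⟶ (Scheme.Modules.pushforward k).obj N) [Epi a]
    (e : (Scheme.Modules.pullback k).obj P ≅ N) : IsIso ((restrictFunctor W.ι).map a) := by
  let b := (RelPCS.pushRestrIso k W).app N
  let i : (restrictFunctor W.ι).obj P ≅ (restrictFunctor W.ι).obj ((Scheme.Modules.pushforward k).obj N) :=
    (pushPullIso (k ∣_ W) _).symm ≪≫ (Scheme.Modules.pushforward (k ∣_ W)).mapIso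
      ((pullRestrIso k W P).symm ≪≫ (restrictFunctor (k ⁻¹ᵁ W).ι).mapIso e) ≪≫ b.symm
  haveI : (restrictFunctor W.ι).PreservesEpimorphisms :=
    Functor.preservesEpimorphisms_of_adjunction (restrictAdjunction W.ι)
  exact isIso_of_epi (DQCoh.isFinLocFree_restrict _ hP)
    (DQCoh.isFinLocFree_of_iso' i (DQCoh.isFinLocFree_restrict _ hP)) _
    fun x => ⟨⊤, trivial, ⟨(restrictFunctor _).mapIso i⟩⟩

/-- A piece of the lift over an affine open. -/
theorem exists_piece [IsNoetherian Y] (h : X ⟶ Y) [IsClosedImmersion h] [Surjective h]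
    (W U : Y.Opens) [IsIso (h ∣_ W)] (hU : IsAffineOpen U) {E : X.Modules} (hE : FlatMod.IsFinLocFree E) :
    ∃ P : U.toScheme.Modules, FlatMod.IsFinLocFree P ∧
      Nonempty ((Scheme.Modules.pullback (h ∣_ U)).obj P ≅ (restrictFunctor (h ⁻¹ᵁ U).ι).obj E) ∧
      ∃ a : P ⟶ (restrictFunctor U.ι).obj ((Scheme.Modules.pushforward h).obj E), Epi a ∧
        ∀ V : U.toScheme.Opens, U.ι ''ᵁ V ≤ W → IsIso (a.app V) := by
  haveI : IsAffine U.toScheme := hU
  haveI : IsClosedImmersion (h ∣_ U) := RelPCS.isClosedImmersion_restr h U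
  haveI : Surjective (h ∣_ U) := MorphismProperty.of_isPullback (P := @Surjective)
    (isPullback_morphismRestrict h U).flip ‹_›
  have hk : IsNilpotent (RingHom.ker (h ∣_ U).appTop.hom) := by
    have := ThickSys.isNilpotent_ker_app (h ∣_ U) ⟨⊤, isAffineOpen_top _⟩
    rwa [Scheme.Hom.ker_apply] at this
  obtain ⟨P, hP, ⟨a, ha⟩, ⟨e⟩⟩ := exists_lift_affine (h ∣_ U) hk
    ((restrictFunctor (h ⁻¹ᵁ U).ι).obj E) (DQCoh.isFinLocFree_restrict _ hE)
  let b := (RelPCS.pushRestrIso h U).app E
  refine ⟨P, hP, ⟨e⟩, a ≫ b.inv, ?_, fun V hV => ?_⟩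
  · haveI := ha
    exact epi_comp _ _
  · haveI := ha
    haveI : IsIso ((h ∣_ U) ∣_ V) := (isIso_restrict_image h U V).2 (isIso_restrict_of_le h hV)
    haveI := isIso_restrict_of_epi (h ∣_ U) V hP (DQCoh.isFinLocFree_restrict _ hE) a e
    haveI : IsIso (a.app V) := isIso_app_of_isIso_restrict a V le_rfl
    rw [Scheme.Modules.Hom.comp_app]
    exact IsIso.comp_isIso

variable {ι : Type} (W : Y.Opens) (U : ι → Y.Opens) (F : Y.Modules) (P : ∀ i, (U i).toScheme.Modules)
  (a : ∀ i, P i ⟶ (restrictFunctor (U i).ι).obj F)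

/-- Iterated fibre products of the pieces over a module. -/
theorem exists_glue [∀ i, Epi (a i)] (hiso : ∀ i (V : (U i).toScheme.Opens), (U i).ι ''ᵁ V ≤ W → IsIso ((a i).app V))
    (hsep : ∀ i j, i ≠ j → U i ⊓ U j ≤ W) (S : Finset ι) :
    ∃ (G : Y.Modules) (φ : G ⟶ F),
      (∀ O : Y.Opens, (∀ i ∈ S, O ⊓ U i ≤ W) → IsIso ((restrictFunctor O.ι).map φ)) ∧
      ∀ i ∈ S, Epi ((restrictFunctor (U i).ι).map φ) ∧ Nonempty ((restrictFunctor (U i).ι).obj G ≅ P i) := by
  classical
  induction S using Finset.induction_on with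
  | empty => exact ⟨F, 𝟙 F, fun O _ => by rw [CategoryTheory.Functor.map_id]; infer_instance, fun i h => absurd h (Finset.notMem_empty i)⟩
  | insert i S hi ih =>
    obtain ⟨G, φ, hφ, hS⟩ := ih
    let j := (U i).ι
    let η := (restrictAdjunction j).unit.app F
    let q := (Scheme.Modules.pushforward j).map (a i)
    have sq := IsPullback.of_hasPullback (φ ≫ η) q
    have hq : ∀ O : Y.Opens, O ⊓ U i ≤ W → IsIso ((restrictFunctor O.ι).map (pullback.fst (φ ≫ η) q)) := by
      intro O hO
      haveI : IsIso ((restrictFunctor O.ι).map q) := isIso_restrict_of_app q O fun V hV => hiso i (j ⁻¹ᵁ V) (by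
        rw [Scheme.Hom.image_preimage_eq_opensRange_inf, Scheme.Opens.opensRange_ι]
        exact le_trans (le_inf (inf_le_right.trans hV) inf_le_left) hO)
      exact (sq.map (restrictFunctor O.ι)).isIso_fst_of_isIso
    refine ⟨pullback (φ ≫ η) q, pullback.fst _ _ ≫ φ, fun O hO => ?_, fun k hk => ?_⟩
    · haveI := hφ O fun k hk => hO k (Finset.mem_insert_of_mem hk)
      haveI := hq O (hO i (Finset.mem_insert_self i S))
      rw [Functor.map_comp]
      exact IsIso.comp_isIso
    · rcases Finset.mem_insert.1 hk with rfl | hk'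
      · let R := restrictFunctor (U k).ι
        let adj := restrictAdjunction (U k).ι
        haveI hη : IsIso (R.map η) := by
          haveI : IsIso (R.map η ≫ adj.counit.app (R.obj F)) := by
            rw [adj.left_triangle_components F]; infer_instance
          exact IsIso.of_isIso_comp_right _ (adj.counit.app (R.obj F))
        haveI : IsIso (R.map φ) := hφ (U k) fun l hl => hsep k l fun h => hi (h ▸ hl)
        haveI : IsIso (R.map (φ ≫ η)) := by rw [Functor.map_comp]; exact IsIso.comp_isIso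
        haveI : IsIso (R.map (pullback.snd (φ ≫ η) q)) := (sq.map R).flip.isIso_fst_of_isIso
        haveI : Epi (R.map (pullback.snd (φ ≫ η) q)) := IsIso.epi_of_iso _
        refine ⟨?_, ⟨asIso (R.map (pullback.snd (φ ≫ η) q)) ≪≫ asIso (adj.counit.app (P k))⟩⟩
        haveI : Epi (R.map q) := by
          have hn : R.map q = adj.counit.app (P k) ≫ a k ≫ inv (adj.counit.app (R.obj F)) := by
            rw [← Category.assoc, IsIso.eq_comp_inv]
            exact adj.counit.naturality (a k)
          rw [hn]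
          haveI : Epi (a k ≫ inv (adj.counit.app (R.obj F))) := epi_comp _ _
          exact epi_comp _ _
        have h1 : R.map (pullback.fst (φ ≫ η) q ≫ φ) =
            (R.map (pullback.snd (φ ≫ η) q) ≫ R.map q) ≫ inv (R.map η) := by
          rw [IsIso.eq_comp_inv, ← Functor.map_comp, ← Functor.map_comp, Category.assoc, pullback.condition]
        rw [h1]
        haveI : Epi (R.map (pullback.snd (φ ≫ η) q) ≫ R.map q) := epi_comp _ _
        exact epi_comp _ _
      · obtain ⟨he, ⟨e⟩⟩ := hS k hk'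
        haveI := he
        haveI := hq (U k) (hsep k i fun h => hi (h ▸ hk'))
        refine ⟨?_, ⟨asIso ((restrictFunctor (U k).ι).map (pullback.fst (φ ≫ η) q)) ≪≫ e⟩⟩
        rw [Functor.map_comp]
        exact epi_comp _ _

set_option maxHeartbeats 1000000 in
/-- Finite locally free modules lift when the bad locus is covered by separated affine opens. -/
theorem exists_lift [IsNoetherian Y] (h : X ⟶ Y) [IsClosedImmersion h] [Surjective h]
    (W : Y.Opens) [IsIso (h ∣_ W)] {ι : Type} [Fintype ι] (U : ι → Y.Opens) (hU : ∀ i, IsAffineOpen (U i))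
    (hsep : ∀ i j, i ≠ j → U i ⊓ U j ≤ W) (hcov : ∀ y, y ∈ W ∨ ∃ i, y ∈ U i)
    {E : X.Modules} (hE : FlatMod.IsFinLocFree E) :
    ∃ G : Y.Modules, FlatMod.IsFinLocFree G ∧ Nonempty ((Scheme.Modules.pullback h).obj G ≅ E) := by
  choose P hP hPe a ha hiso using fun i => exists_piece h W (U i) (hU i) hE
  haveI := ha
  obtain ⟨G, φ, hφ, hS⟩ := exists_glue W U _ P a hiso hsep Finset.univ
  haveI := hφ W fun i _ => inf_le_left
  let eW : (restrictFunctor W.ι).obj G ≅
      (Scheme.Modules.pushforward (h ∣_ W)).obj ((restrictFunctor (h ⁻¹ᵁ W).ι).obj E) :=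
    asIso ((restrictFunctor W.ι).map φ) ≪≫ (RelPCS.pushRestrIso h W).app E
  have hEW : FlatMod.IsFinLocFree ((Scheme.Modules.pushforward (h ∣_ W)).obj
      ((restrictFunctor (h ⁻¹ᵁ W).ι).obj E)) :=
    isFinLocFree_push (h ∣_ W) (DQCoh.isFinLocFree_restrict (h ⁻¹ᵁ W).ι hE)
  have hG : FlatMod.IsFinLocFree G := by
    refine DQCoh.isFinLocFree_of_local fun y => ?_
    rcases hcov y with hy | ⟨i, hy⟩
    · exact ⟨W.toScheme, W.ι, inferInstance, (⟨y, hy⟩ : W), rfl, DQCoh.isFinLocFree_of_iso' eW.symm hEW⟩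
    · exact ⟨(U i).toScheme, (U i).ι, inferInstance, (⟨y, hy⟩ : (U i)), rfl,
        DQCoh.isFinLocFree_of_iso' (hS i (Finset.mem_univ i)).2.some.symm (hP i)⟩
  haveI : Epi φ := epi_of_restrict φ fun y => by
    rcases hcov y with hy | ⟨i, hy⟩
    · exact ⟨W, hy, IsIso.epi_of_iso _⟩
    · exact ⟨U i, hy, (hS i (Finset.mem_univ i)).1⟩
  let adj := Scheme.Modules.pullbackPushforwardAdjunction h
  haveI : (Scheme.Modules.pullback h).PreservesEpimorphisms := Functor.preservesEpimorphisms_of_adjunction adj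
  haveI : (Scheme.Modules.pushforward h).Faithful := RelPCS.faithful_push h
  haveI : Epi (adj.counit.app E) := adj.counit_epi_of_R_faithful E
  let ψ := (Scheme.Modules.pullback h).map φ ≫ adj.counit.app E
  haveI : Epi ψ := epi_comp _ _
  haveI : IsIso ψ := isIso_of_epi (DerPerf.isFinLocFree_pullback h hG) hE ψ fun x => by
    rcases hcov (h x) with hy | ⟨i, hy⟩
    · exact ⟨h ⁻¹ᵁ W, hy, ⟨pullRestrIso h W G ≪≫ (Scheme.Modules.pullback _).mapIso eW ≪≫ pullPushIso _ _⟩⟩
    · exact ⟨h ⁻¹ᵁ U i, hy, ⟨pullRestrIso h (U i) G ≪≫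
        (Scheme.Modules.pullback _).mapIso (hS i (Finset.mem_univ i)).2.some ≪≫ (hPe i).some⟩⟩
  exact ⟨G, hG, ⟨asIso ψ⟩⟩

end Groth.Agent.VBLift
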