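import Groth.Agent.Hensel.Smooth
import Groth.Agent.DQCoh.AffinePerf
import Groth.Agent.DQCoh.LocLift
import Groth.Agent.DQCoh.PerfCrit
import Groth.Agent.QC.PullbackTilde
import Groth.Agent.QC.Localisation
import Groth.Agent.DerPerf.Local
import Groth.Agent.DRingKP.FlatBC

/-!
Lifting finite locally free modules along affine nilimmersions.
-/

set_option autoImplicit false
set_option backward.isDefEq.respectTransparency false
set_option backward.isDefEq.respectTransparency.types false
set_option linter.style.haveILetI false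

universe u

open CategoryTheory CategoryTheory.Limits AlgebraicGeometry TopologicalSpace Opposite TensorProduct

noncomputable section

namespace Groth.Agent.VBLift

/-- A nilpotent ideal gives a henselian pair. -/
theorem henselian_of_isNilpotent {A : Type u} [CommRing A] (I : Ideal A) (hI : IsNilpotent I) :
    HenselianRing A I := by
  obtain ⟨n, hn⟩ := hI
  have hbot : (I ^ n • (⊤ : Submodule A A)) = ⊥ := by
    rw [hn]; exact Submodule.bot_smul _
  haveI : IsHausdorff I A := ⟨fun x hx => by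
    have h := hx n
    rw [hbot, SModEq.bot] at h
    exact h⟩
  haveI : IsPrecomplete I A := ⟨fun f hf => ⟨f n, fun m => by
    rcases le_total m n with h | h
    · exact hf h
    · have h1 := hf h
      rw [hbot, SModEq.bot] at h1
      rw [h1]⟩⟩
  haveI : IsAdicComplete I A := {}
  infer_instance

/-- The unit of extension of scalars along a surjection is surjective. -/
theorem epi_unit_extend {R S : CommRingCat.{u}} (φ : R ⟶ S) (h : Function.Surjective φ.hom) (M : ModuleCat.{u} R) :
    Epi ((ModuleCat.extendRestrictScalarsAdj.{u, u, u} φ.hom).unit.app M) := by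
  rw [ModuleCat.epi_iff_surjective]
  intro t
  induction t using TensorProduct.induction_on with
  | zero => exact ⟨0, map_zero _⟩
  | tmul s p =>
    obtain ⟨a, rfl⟩ := h s
    refine ⟨a • p, ?_⟩
    rw [map_smul, ModuleCat.extendRestrictScalarsAdj_unit_app_apply]
    exact (ModuleCat.ExtendScalars.smul_tmul φ.hom (φ.hom a) 1 p).trans (by rw [mul_one])
  | add x y hx hy =>
    obtain ⟨a, ha⟩ := hx
    obtain ⟨b, hb⟩ := hy
    exact ⟨a + b, (map_add _ _ _).trans (congrArg₂ (· + ·) ha hb)⟩

/-- A model of the global sections of the pullback gives a model of the module. -/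
theorem exists_of_model {R S : CommRingCat.{u}} (φ : R ⟶ S) (hφ : Function.Surjective φ.hom)
    (M : (Spec S).Modules) (hM : Coh.IsQCoh M) (P₀ : ModuleCat.{u} R)
    (eN : (ModuleCat.extendScalars.{u, u, u} φ.hom).obj P₀ ≅ (moduleSpecΓFunctor (R := S)).obj M) :
    (∃ a : tilde P₀ ⟶ (Scheme.Modules.pushforward (Spec.map φ)).obj M, Epi a) ∧
      Nonempty ((Scheme.Modules.pullback (Spec.map φ)).obj (tilde P₀) ≅ M) := by
  haveI : M.IsQuasicoherent := hM
  haveI : ((Scheme.Modules.pushforward (Spec.map φ)).obj M).IsQuasicoherent :=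
    QC.isQCoh_pushforward (Spec.map φ)
  haveI : IsIso (Scheme.Modules.fromTildeΓ M) := Scheme.Modules.isIso_fromTildeΓ_of_isQuasicoherent M
  haveI : IsIso (Scheme.Modules.fromTildeΓ ((Scheme.Modules.pushforward (Spec.map φ)).obj M)) :=
    Scheme.Modules.isIso_fromTildeΓ_of_isQuasicoherent _
  haveI := epi_unit_extend φ hφ P₀
  let p : P₀ ⟶ (moduleSpecΓFunctor (R := R)).obj ((Scheme.Modules.pushforward (Spec.map φ)).obj M) :=
    (ModuleCat.extendRestrictScalarsAdj.{u, u, u} φ.hom).unit.app P₀ ≫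
      (ModuleCat.restrictScalars φ.hom).map eN.hom ≫ ((QC.pushforwardΓIso φ).app M).inv
  haveI : Epi p := epi_comp _ _
  haveI : (tilde.functor R).PreservesEpimorphisms :=
    Functor.preservesEpimorphisms_of_adjunction tilde.adjunction
  haveI : Epi ((tilde.functor R).map p) := inferInstance
  exact ⟨⟨(tilde.functor R).map p ≫
      Scheme.Modules.fromTildeΓ ((Scheme.Modules.pushforward (Spec.map φ)).obj M), epi_comp _ _⟩,
    ⟨(QC.pullbackTildeIso φ).app P₀ ≪≫ (tilde.functor S).mapIso eN ≪≫ asIso (Scheme.Modules.fromTildeΓ M)⟩⟩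

/-- An affine piece of a lifting problem, in standard form. -/
theorem exists_lift_spec (A : Type u) [CommRing A] (I : Ideal A) (hI : IsNilpotent I)
    (M : (Spec (CommRingCat.of (A ⧸ I))).Modules) (hM : FlatMod.IsFinLocFree M) :
    ∃ P : (Spec (CommRingCat.of A)).Modules, FlatMod.IsFinLocFree P ∧
      (∃ a : P ⟶ (Scheme.Modules.pushforward (Spec.map (CommRingCat.ofHom (Ideal.Quotient.mk I)))).obj M, Epi a) ∧
      Nonempty ((Scheme.Modules.pullback (Spec.map (CommRingCat.ofHom (Ideal.Quotient.mk I)))).obj P ≅ M) := by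
  let φ : CommRingCat.of A ⟶ CommRingCat.of (A ⧸ I) := CommRingCat.ofHom (Ideal.Quotient.mk I)
  let N : ModuleCat.{u} (A ⧸ I) := (moduleSpecΓFunctor (R := CommRingCat.of (A ⧸ I))).obj M
  obtain ⟨hf, hp⟩ : Module.Finite (A ⧸ I) N ∧ Module.Projective (A ⧸ I) N := DQCoh.finiteProjective_gamma M hM
  haveI := hf
  haveI := hp
  haveI := henselian_of_isNilpotent I hI
  obtain ⟨P, _, _, hPf, hPp, ⟨e⟩⟩ := Hensel.exists_projective_lift (A := A) (I := I) N
  obtain ⟨ha, he⟩ := exists_of_model φ Ideal.Quotient.mk_surjective M (DQCoh.isQCoh_of_isFinLocFree hM)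
    (ModuleCat.of A P) (DRingKP.extendTensorIso (A := A) (B := A ⧸ I) P ≪≫ e.toModuleIso)
  exact ⟨tilde (R := CommRingCat.of A) (ModuleCat.of A P), DQCoh.isFinLocFree_tilde (A := A) _ ⟨hPf, hPp⟩, ha, he⟩

variable {X Y : Scheme.{u}}

/-- Direct image along an isomorphism is restriction along its inverse. -/
def pushIsoRestrict (e : X ⟶ Y) [IsIso e] :
    Scheme.Modules.pushforward e ≅ Scheme.Modules.restrictFunctor (inv e) :=
  (Functor.rightUnitor _).symm ≪≫
    Functor.isoWhiskerLeft _ (Scheme.Modules.restrictFunctorAdjCounitIso (inv e)).symm ≪≫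
    (Functor.associator _ _ _).symm ≪≫
    Functor.isoWhiskerRight (Scheme.Modules.pushforwardComp e (inv e) ≪≫
      Scheme.Modules.pushforwardCongr (IsIso.hom_inv_id e) ≪≫ Scheme.Modules.pushforwardId X) _ ≪≫
    Functor.leftUnitor _

theorem isFinLocFree_push (e : X ⟶ Y) [IsIso e] {N : X.Modules} (h : FlatMod.IsFinLocFree N) :
    FlatMod.IsFinLocFree ((Scheme.Modules.pushforward e).obj N) :=
  DQCoh.isFinLocFree_of_iso' ((pushIsoRestrict e).app N).symm (DQCoh.isFinLocFree_restrict _ h)

theorem epi_push (e : X ⟶ Y) [IsIso e] {M N : X.Modules} (a : M ⟶ N) [Epi a] :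
    Epi ((Scheme.Modules.pushforward e).map a) := by
  haveI : (Scheme.Modules.pushforward e).PreservesEpimorphisms := by
    haveI : (Scheme.Modules.restrictFunctor (inv e)).PreservesEpimorphisms :=
      Functor.preservesEpimorphisms_of_adjunction (Scheme.Modules.restrictAdjunction (inv e))
    exact Functor.PreservesEpimorphisms.of_iso (pushIsoRestrict e).symm
  infer_instance

/-- Pulling back a direct image along an isomorphism. -/
def pullPushIso (e : X ⟶ Y) [IsIso e] (N : X.Modules) :
    (Scheme.Modules.pullback e).obj ((Scheme.Modules.pushforward e).obj N) ≅ N :=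
  ((Scheme.Modules.restrictFunctorIsoPullback e).app _).symm ≪≫
    (Scheme.Modules.restrictFunctorAdjCounitIso e).app N

/-- Pulling back along equal composites. -/
def pullCompIso {Z : Scheme.{u}} {f : X ⟶ Y} {g : Y ⟶ Z} {h : X ⟶ Z} (w : f ≫ g = h) (M : Z.Modules) :
    (Scheme.Modules.pullback f).obj ((Scheme.Modules.pullback g).obj M) ≅ (Scheme.Modules.pullback h).obj M :=
  (Scheme.Modules.pullbackComp f g).app M ≪≫ (Scheme.Modules.pullbackCongr w).app M

/-- Pushing forward along equal composites. -/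
def pushCompIso {Z : Scheme.{u}} {f : X ⟶ Y} {g : Y ⟶ Z} {h : X ⟶ Z} (w : f ≫ g = h) (M : X.Modules) :
    (Scheme.Modules.pushforward g).obj ((Scheme.Modules.pushforward f).obj M) ≅
      (Scheme.Modules.pushforward h).obj M :=
  (Scheme.Modules.pushforwardComp f g).app M ≪≫ (Scheme.Modules.pushforwardCongr w).app M

theorem exists_iso_quot {U U' : Scheme.{u}} (k : U' ⟶ U) [IsClosedImmersion k] [IsAffine U] :
    ∃ (_ : IsAffine U') (ι : U' ⟶ Spec (CommRingCat.of (Γ(U, ⊤) ⧸ RingHom.ker k.appTop.hom))) (_ : IsIso ι),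
      ι ≫ Spec.map (CommRingCat.ofHom (Ideal.Quotient.mk (RingHom.ker k.appTop.hom))) ≫ U.isoSpec.inv = k := by
  haveI hU' : IsAffine U' := isAffine_of_isAffineHom k
  have hs : Function.Surjective k.appTop.hom := k.app_surjective ⊤ (isAffineOpen_top U)
  let e : CommRingCat.of (Γ(U, ⊤) ⧸ RingHom.ker k.appTop.hom) ≅ Γ(U', ⊤) :=
    (RingHom.quotientKerEquivOfSurjective hs).toCommRingCatIso
  have he : CommRingCat.ofHom (Ideal.Quotient.mk (RingHom.ker k.appTop.hom)) ≫ e.hom = k.appTop := by
    ext x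
    rfl
  refine ⟨hU', U'.isoSpec.hom ≫ Spec.map e.hom, inferInstance, ?_⟩
  rw [Category.assoc, ← Category.assoc (Spec.map e.hom), ← Spec.map_comp, he, ← Category.assoc,
    Scheme.isoSpec_hom_naturality, Category.assoc, Iso.hom_inv_id, Category.comp_id]

/-- An affine piece of a lifting problem. -/
theorem exists_lift_affine {U U' : Scheme.{u}} (k : U' ⟶ U) [IsClosedImmersion k] [IsAffine U]
    (hk : IsNilpotent (RingHom.ker k.appTop.hom)) (N : U'.Modules) (hN : FlatMod.IsFinLocFree N) :
    ∃ P : U.Modules, FlatMod.IsFinLocFree P ∧ (∃ a : P ⟶ (Scheme.Modules.pushforward k).obj N, Epi a) ∧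
      Nonempty ((Scheme.Modules.pullback k).obj P ≅ N) := by
  obtain ⟨_, ι, _, hι⟩ := exists_iso_quot k
  obtain ⟨P, hP, ⟨a, ha⟩, ⟨e⟩⟩ := exists_lift_spec _ _ hk ((Scheme.Modules.pushforward ι).obj N)
    (isFinLocFree_push ι hN)
  let q := Spec.map (CommRingCat.ofHom (Ideal.Quotient.mk (RingHom.ker k.appTop.hom)))
  refine ⟨(Scheme.Modules.pushforward U.isoSpec.inv).obj P, isFinLocFree_push _ hP,
    ⟨(Scheme.Modules.pushforward U.isoSpec.inv).map a ≫
      (pushCompIso (rfl : q ≫ U.isoSpec.inv = _) ((Scheme.Modules.pushforward ι).obj N) ≪≫ pushCompIso hι N).hom,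
      ?_⟩, ⟨?_⟩⟩
  · haveI := ha
    haveI := epi_push U.isoSpec.inv a
    exact epi_comp _ _
  · exact (pullCompIso hι _).symm ≪≫
      (Scheme.Modules.pullback ι).mapIso ((pullCompIso rfl _).symm ≪≫
        (Scheme.Modules.pullback q).mapIso (pullPushIso U.isoSpec.inv P) ≪≫ e) ≪≫ pullPushIso ι N

end Groth.Agent.VBLift
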